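import Cfsg.Agent.H586.NX.Defs

/-!
# S4979, layer (B), piece B3: fixed point formulas for 3-elements on an elementary abelian 2-group (helper994)

* `wielandt` : `|C(x)| |C(y)| |C(xy)| |C(xy⁻¹)| = |U| |C(x, y)|³`;
* `order_nine` : `y ^ 9 = 1`: `|U| = |C(y³)| 64^m`;
* `not_nine`, `nine_four` : consequences.
-/

set_option autoImplicit false
set_option linter.unusedSectionVars false

namespace Cfsg.Agent.H994.NX

open Cfsg.Agent.H586.NX

section

variable {Y U : Type*} [Group Y] [Finite Y] [AddCommGroup U] [Finite U] [DistribMulAction Y U]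

/-- the sum over the group generated by an element of order 3 -/
def e3 (z : Y) (u : U) : U := u + z • u + z • z • u

theorem smul_three {z : Y} (hz : z ^ 3 = 1) (u : U) : z • z • z • u = u := by
  rw [← mul_smul, ← mul_smul, ← pow_two, ← pow_succ, hz, one_smul]

theorem smul_e3 {z : Y} (hz : z ^ 3 = 1) (u : U) : z • e3 z u = e3 z u := by
  unfold e3
  rw [smul_add, smul_add, smul_three hz]
  abel

theorem e3_fix (hexp : ∀ u : U, 2 • u = 0) {z : Y} {u : U} (hu : z • u = u) : e3 z u = u := by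
  unfold e3
  have h := hexp u
  rw [two_smul] at h
  rw [hu, hu, h, zero_add]

theorem e3_zero (z : Y) : e3 z (0 : U) = 0 := by
  unfold e3
  rw [smul_zero, smul_zero, add_zero, add_zero]

theorem e3_add (z : Y) (u v : U) : e3 z (u + v) = e3 z u + e3 z v := by
  unfold e3
  rw [smul_add, smul_add]
  abel

theorem orderOf_three {x : Y} (hx : orderOf x = 3) : x ^ 3 = 1 := by rw [← hx]; exact pow_orderOf_eq_one x

/-- the four sums -/
theorem four_sums (hexp : ∀ u : U, 2 • u = 0) {x y : Y} (hx : x ^ 3 = 1) (hy : y ^ 3 = 1) (hxy : x * y = y * x) :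
    (∀ u : U, e3 x (e3 y u) = e3 y (e3 x u)) ∧ (∀ u : U, e3 x (e3 (x * y) u) = e3 x (e3 y u)) ∧
    (∀ u : U, e3 y (e3 (x * y) u) = e3 x (e3 y u)) ∧ (∀ u : U, e3 x (e3 (x * y⁻¹) u) = e3 x (e3 y u)) ∧
    (∀ u : U, e3 y (e3 (x * y⁻¹) u) = e3 x (e3 y u)) ∧ (∀ u : U, e3 (x * y) (e3 (x * y⁻¹) u) = e3 x (e3 y u)) ∧
    (∀ u : U, e3 x u + e3 y u + e3 (x * y) u + e3 (x * y⁻¹) u = u + e3 x (e3 y u)) := by
  have hc : ∀ u : U, y • x • u = x • y • u := fun u => by rw [← mul_smul, ← hxy, mul_smul]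
  have h3x : ∀ u : U, x • x • x • u = u := smul_three hx
  have h3y : ∀ u : U, y • y • y • u = u := smul_three hy
  have hi : ∀ u : U, y⁻¹ • u = y • y • u := fun u => by
    rw [inv_smul_eq_iff, h3y]
  have h3' : ∀ u : U, x • x • x • u = u := h3x
  refine ⟨fun u => ?_, fun u => ?_, fun u => ?_, fun u => ?_, fun u => ?_, fun u => ?_, fun u => ?_⟩
  all_goals
    simp only [e3, mul_smul, hi, smul_add, hc, h3x, h3y]
  · abel
  · abel
  · abel
  · abel
  · abel
  · abel
  · rw [← sub_eq_zero]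
    abel_nf
    exact_mod_cast hexp u

/-- fixed points of a subset -/
abbrev Fx (x : Y) (U : Type*) [AddCommGroup U] [DistribMulAction Y U] := {u : U // x • u = u}

theorem wielandt (hexp : ∀ u : U, 2 • u = 0) (x y : Y) (hx : orderOf x = 3) (hy : orderOf y = 3) (hxy : x * y = y * x)
    (hne : y ∉ Subgroup.zpowers x) :
    Nat.card {u : U // x • u = u} * Nat.card {u : U // y • u = u} * Nat.card {u : U // (x * y) • u = u} *
      Nat.card {u : U // (x * y⁻¹) • u = u} = Nat.card U * Nat.card {u : U // x • u = u ∧ y • u = u} ^ 3 := by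
  have hx3 := orderOf_three hx
  have hy3 := orderOf_three hy
  have hxy3 : (x * y) ^ 3 = 1 := by rw [(show Commute x y from hxy).mul_pow, hx3, hy3, one_mul]
  have hxy3' : (x * y⁻¹) ^ 3 = 1 := by
    rw [(show Commute x y⁻¹ from (show Commute x y from hxy).inv_right).mul_pow, inv_pow, hx3, hy3, inv_one, one_mul]
  obtain ⟨k1, k2, k3, k4, k5, k6, k7⟩ := four_sums (U := U) hexp hx3 hy3 hxy
  -- elements of `C`
  have hC : ∀ u : U, (x • u = u ∧ y • u = u) → (x * y) • u = u ∧ (x * y⁻¹) • u = u ∧ e3 x (e3 y u) = u := by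
    rintro u ⟨h1, h2⟩
    have h3 : y⁻¹ • u = u := by rw [inv_smul_eq_iff, h2]
    refine ⟨by rw [mul_smul, h2, h1], by rw [mul_smul, h3, h1], ?_⟩
    rw [e3_fix hexp h2, e3_fix hexp h1]
  have hN : ∀ u : U, x • e3 x (e3 y u) = e3 x (e3 y u) ∧ y • e3 x (e3 y u) = e3 x (e3 y u) := fun u =>
    ⟨smul_e3 hx3 _, by rw [k1]; exact smul_e3 hy3 _⟩
  have hadd : ∀ u v : U, u + v = 0 ↔ u = v := by
    intro u v
    have h := hexp v
    rw [two_smul] at h
    constructor
    · intro h1
      rw [← h] at h1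
      exact add_right_cancel h1
    · rintro rfl
      exact h
  -- the bijection
  let f : {u : U // x • u = u} × {u : U // y • u = u} × {u : U // (x * y) • u = u} × {u : U // (x * y⁻¹) • u = u} →
      U × {u : U // x • u = u ∧ y • u = u} × {u : U // x • u = u ∧ y • u = u} × {u : U // x • u = u ∧ y • u = u} :=
    fun a => (a.1.1 + a.2.1.1 + a.2.2.1.1 + a.2.2.2.1, ⟨_, hN a.1.1⟩, ⟨_, hN a.2.1.1⟩, ⟨_, hN a.2.2.1.1⟩)
  have hf : Function.Bijective f := by
    constructor
    · rintro ⟨⟨a, ha⟩, ⟨b, hb⟩, ⟨c, hc⟩, ⟨d, hd⟩⟩ ⟨⟨a', ha'⟩, ⟨b', hb'⟩, ⟨c', hc'⟩, ⟨d', hd'⟩⟩ hh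
      simp only [f, Prod.mk.injEq, Subtype.mk.injEq] at hh
      obtain ⟨h1, h2, h3, h4⟩ := hh
      have key : ∀ a b c d : U, x • a = a → y • b = b → (x * y) • c = c → (x * y⁻¹) • d = d → a + b + c + d = 0 →
          e3 x (e3 y a) = 0 → e3 x (e3 y b) = 0 → e3 x (e3 y c) = 0 → a = 0 ∧ b = 0 ∧ c = 0 ∧ d = 0 := by
        intro a b c d ha hb hc hd hs na nb nc
        have nd : e3 x (e3 y d) = 0 := by
          have h := congrArg (fun v : U => e3 x (e3 y v)) hs
          simp only [e3_add, e3_zero, na, nb, nc, zero_add] at h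
          exact h
        have fa := e3_fix hexp ha
        have fb := e3_fix hexp hb
        have fc := e3_fix hexp hc
        have fd := e3_fix hexp hd
        have a0 : a = 0 := by
          have h := congrArg (fun v : U => e3 x v) hs
          simp only [e3_add, e3_zero] at h
          rw [fa] at h
          rw [← fb, nb, ← fc, k2, nc, ← fd, k4, nd, add_zero, add_zero, add_zero] at h
          exact h
        have b0 : b = 0 := by
          have h := congrArg (fun v : U => e3 y v) hs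
          simp only [e3_add, e3_zero] at h
          rw [a0, e3_zero, fb, ← fc, k3, nc, ← fd, k5, nd, add_zero, add_zero, zero_add] at h
          exact h
        have c0 : c = 0 := by
          have h := congrArg (fun v : U => e3 (x * y) v) hs
          simp only [e3_add, e3_zero] at h
          rw [a0, b0, e3_zero, fc, ← fd, k6, nd, add_zero, add_zero, zero_add] at h
          exact h
        refine ⟨a0, b0, c0, ?_⟩
        rw [a0, b0, c0, add_zero, add_zero, zero_add] at hs
        exact hs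
      have hsub : ∀ (z : Y) (v w : U), z • v = v → z • w = w → z • (v - w) = v - w := by
        intro z v w hv hw
        rw [smul_sub, hv, hw]
      have hNsub : ∀ v w : U, e3 x (e3 y v) = e3 x (e3 y w) → e3 x (e3 y (v - w)) = 0 := by
        intro v w hvw
        have h := e3_add (U := U) x (e3 y (v - w)) (e3 y w)
        rw [← e3_add, sub_add_cancel, hvw] at h
        exact (right_eq_add.1 h)
      obtain ⟨m1, m2, m3, m4⟩ := key (a - a') (b - b') (c - c') (d - d') (hsub _ _ _ ha ha') (hsub _ _ _ hb hb')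
        (hsub _ _ _ hc hc') (hsub _ _ _ hd hd')
        (by
          have h : a - a' + (b - b') + (c - c') + (d - d') = (a + b + c + d) - (a' + b' + c' + d') := by abel
          rw [h, h1, sub_self]) (hNsub _ _ h2) (hNsub _ _ h3) (hNsub _ _ h4)
      rw [sub_eq_zero] at m1 m2 m3 m4
      subst m1 m2 m3 m4
      rfl
    · rintro ⟨u, ⟨c1, hc1⟩, ⟨c2, hc2⟩, ⟨c3, hc3⟩⟩
      obtain ⟨N, hNdef⟩ : ∃ N, N = e3 x (e3 y u) := ⟨_, rfl⟩
      have hNf := hN u
      rw [← hNdef] at hNf
      obtain ⟨-, -, hNN⟩ := hC N hNf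
      obtain ⟨c1a, c1b, c1N⟩ := hC c1 hc1
      obtain ⟨c2a, c2b, c2N⟩ := hC c2 hc2
      obtain ⟨c3a, c3b, c3N⟩ := hC c3 hc3
      obtain ⟨Na, Nb, -⟩ := hC N hNf
      have hNu := hexp N
      rw [two_smul] at hNu
      refine ⟨(⟨e3 x u + N + c1, ?_⟩, ⟨e3 y u + N + c2, ?_⟩, ⟨e3 (x * y) u + N + c3, ?_⟩,
        ⟨e3 (x * y⁻¹) u + N + (N + c1 + c2 + c3), ?_⟩), ?_⟩
      · rw [smul_add, smul_add, smul_e3 hx3, hNf.1, hc1.1]
      · rw [smul_add, smul_add, smul_e3 hy3, hNf.2, hc2.2]
      · rw [smul_add, smul_add, smul_e3 hxy3, Na, c3a]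
      · rw [smul_add, smul_add, smul_add, smul_add, smul_add, smul_e3 hxy3', Nb, c1b, c2b, c3b]
      · simp only [f, Prod.mk.injEq, Subtype.mk.injEq]
        refine ⟨?_, ?_, ?_, ?_⟩
        · have h := k7 u
          rw [← hNdef] at h
          have e1 := hexp c1
          have e2 := hexp c2
          have e3' := hexp c3
          rw [two_smul] at e1 e2 e3'
          calc e3 x u + N + c1 + (e3 y u + N + c2) + (e3 (x * y) u + N + c3) +
                (e3 (x * y⁻¹) u + N + (N + c1 + c2 + c3)) =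
              (e3 x u + e3 y u + e3 (x * y) u + e3 (x * y⁻¹) u) + (N + (N + N) + (N + N) + (c1 + c1) + (c2 + c2) +
                (c3 + c3)) := by abel
            _ = u := by
              rw [h, hNu, e1, e2, e3', add_zero, add_zero, add_zero, add_zero, add_zero, add_assoc, hNu, add_zero]
        · rw [e3_add, e3_add, e3_add, e3_add, hNN, c1N, ← k1, e3_fix hexp (smul_e3 hx3 _), ← hNdef, hNu, zero_add]
        · rw [e3_add, e3_add, e3_add, e3_add, hNN, c2N, e3_fix hexp (smul_e3 hy3 _), ← hNdef, hNu, zero_add]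
        · rw [e3_add, e3_add, e3_add, e3_add, hNN, c3N, k3, ← hNdef, e3_fix hexp hNf.1, hNu, zero_add]
  have hcard := Nat.card_congr (Equiv.ofBijective f hf)
  simp only [Nat.card_prod] at hcard
  calc _ = _ := by ring
    _ = _ := hcard
    _ = _ := by ring

/-! ### elements of order 9 -/

theorem card_two (hexp : ∀ u : U, 2 • u = 0) (V : AddSubgroup U) : ∃ k : ℕ, Nat.card V = 2 ^ k := by
  have h1 : ∀ v : V, 2 • v = 0 := fun v => Subtype.ext (hexp v)
  let _ : Module (ZMod 2) V := AddCommGroup.zmodModule h1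
  refine ⟨Module.finrank (ZMod 2) V, ?_⟩
  rw [Module.natCard_eq_pow_finrank (K := ZMod 2), Nat.card_zmod]

/-- `|U| = |C_U(z)| |[U, z]|` -/
theorem card_split (hexp : ∀ u : U, 2 • u = 0) {z : Y} (hz : z ^ 3 = 1) :
    Nat.card U = Nat.card {u : U // z • u = u} * Nat.card {u : U // e3 z u = 0} := by
  rw [← Nat.card_prod]
  refine (Nat.card_congr (Equiv.ofBijective (fun a : {u : U // z • u = u} × {u : U // e3 z u = 0} => a.1.1 + a.2.1)
    ⟨?_, ?_⟩)).symm
  · rintro ⟨⟨a, ha⟩, ⟨b, hb⟩⟩ ⟨⟨a', ha'⟩, ⟨b', hb'⟩⟩ h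
    have h' : a + b = a' + b' := h
    have h1 := congrArg (fun v : U => e3 z v) h'
    simp only [e3_add, hb, hb', add_zero, e3_fix hexp ha, e3_fix hexp ha'] at h1
    subst h1
    have h2 := add_left_cancel h'
    subst h2
    rfl
  · intro u
    have h2 := hexp (e3 z u)
    rw [two_smul] at h2
    refine ⟨(⟨e3 z u, smul_e3 hz u⟩, ⟨u + e3 z u, ?_⟩), ?_⟩
    · rw [e3_add, e3_fix hexp (smul_e3 hz u), h2]
    · show e3 z u + (u + e3 z u) = u
      have h3 : e3 z u + (u + e3 z u) = u + (e3 z u + e3 z u) := by abel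
      rw [h3, h2, add_zero]

theorem six_dvd {d : ℕ} (h : 9 ∣ 2 ^ d - 1) : 6 ∣ d := by
  have h1 : 2 ^ d % 9 = 1 := by
    have h2 : 1 ≤ 2 ^ d := Nat.one_le_two_pow
    omega
  have h3 : 2 ^ d % 9 = 2 ^ (d % 6) % 9 := by
    conv_lhs => rw [← Nat.div_add_mod d 6, pow_add, pow_mul, Nat.mul_mod, Nat.pow_mod]
    norm_num
  rw [h3] at h1
  have h4 : d % 6 < 6 := Nat.mod_lt _ (by norm_num)
  have h5 : d % 6 = 0 := by
    revert h1 h4
    generalize d % 6 = e
    intro h1 h4
    interval_cases e <;> simp_all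
  exact Nat.dvd_of_mod_eq_zero h5

theorem order_nine (hexp : ∀ u : U, 2 • u = 0) (y : Y) (hy : y ^ 9 = 1) :
    ∃ m : ℕ, Nat.card U = Nat.card {u : U // (y ^ 3) • u = u} * 64 ^ m := by
  classical
  obtain ⟨z, hzdef⟩ : ∃ z, z = y ^ 3 := ⟨_, rfl⟩
  have hz : z ^ 3 = 1 := by rw [hzdef, ← pow_mul]; exact hy
  rw [← hzdef, card_split hexp hz]
  let V : AddSubgroup U :=
    { carrier := {u | e3 z u = 0}
      zero_mem' := e3_zero z
      add_mem' := by
        intro a b ha hb
        show e3 z (a + b) = 0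
        rw [e3_add, ha, hb, add_zero]
      neg_mem' := by
        intro a ha
        show e3 z (-a) = 0
        have h1 := e3_add z a (-a)
        rw [add_neg_cancel, e3_zero, show e3 z a = 0 from ha, zero_add] at h1
        exact h1.symm }
  have hV : Nat.card {u : U // e3 z u = 0} = Nat.card V := rfl
  obtain ⟨k, hk⟩ := card_two hexp V
  by_cases hy3 : z = 1
  · refine ⟨0, ?_⟩
    have h1 : Nat.card {u : U // e3 z u = 0} = 1 := by
      have : ∀ v : {u : U // e3 z u = 0}, v = ⟨0, e3_zero z⟩ := by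
        rintro ⟨v, hv⟩
        apply Subtype.ext
        show v = 0
        rw [← hv, e3_fix hexp (by rw [hy3, one_smul])]
      exact Nat.card_eq_one_iff_unique.2 ⟨⟨fun a b => by rw [this a, this b]⟩, ⟨⟨0, e3_zero z⟩⟩⟩
    rw [h1, pow_zero]
  · have ho : orderOf y = 9 := by
      have h1 : orderOf y ∣ 9 := orderOf_dvd_of_pow_eq_one hy
      have h2 : orderOf y ∣ 3 ^ 2 := h1
      rcases (Nat.dvd_prime_pow Nat.prime_three).1 h2 with ⟨j, hj, hj'⟩
      have h3 : ¬ orderOf y ∣ 3 := fun h => hy3 (by rw [hzdef]; exact orderOf_dvd_iff_pow_eq_one.1 h)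
      interval_cases j
      · rw [hj'] at h3; exact absurd (by norm_num) h3
      · rw [hj'] at h3; exact absurd (by norm_num) h3
      · rw [hj']; norm_num
    -- the free action of `⟨y⟩`
    let T : SubMulAction (Subgroup.zpowers y) U :=
      { carrier := {u | e3 z u = 0 ∧ u ≠ 0}
        smul_mem' := by
          rintro ⟨g, hg⟩ u ⟨h1, h2⟩
          have hc : g * z = z * g := by
            obtain ⟨i, rfl⟩ := hg
            rw [hzdef]
            exact ((Commute.refl y).zpow_left i).pow_right 3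
          have hc' : ∀ v : U, z • g • v = g • z • v := fun v => by rw [← mul_smul, ← hc, mul_smul]
          refine ⟨?_, ?_⟩
          · show e3 z (g • u) = 0
            have h3 : e3 z (g • u) = g • e3 z u := by
              unfold e3
              rw [hc', hc', smul_add, smul_add]
            rw [h3, h1, smul_zero]
          · show g • u ≠ 0
            intro h
            apply h2
            rw [← smul_zero g] at h
            exact smul_left_cancel g h }
    have hfree : ∀ b : T, MulAction.stabilizer (Subgroup.zpowers y) b = ⊥ := by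
      rintro ⟨v, hv1, hv2⟩
      rw [eq_bot_iff]
      rintro ⟨g, hg⟩ hs
      have hs' : g • v = v := congrArg Subtype.val hs
      by_contra hg1
      have hg1' : g ≠ 1 := fun h => hg1 (Subgroup.mem_bot.2 (Subtype.ext h))
      obtain ⟨i, hi9, rfl⟩ : ∃ i : ℕ, i < 9 ∧ y ^ i = g := by
        obtain ⟨i, hi⟩ := (mem_powers_iff_mem_zpowers.2 hg)
        refine ⟨i % 9, Nat.mod_lt _ (by norm_num), ?_⟩
        rw [← hi]
        show _ = y ^ i
        rw [← ho, pow_mod_orderOf]
      have hzs : ∃ j : ℕ, z = (y ^ i) ^ j := by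
        have hred : ∀ j : ℕ, i * j % 9 = 3 → z = (y ^ i) ^ j := by
          intro j hj
          rw [← pow_mul, ← pow_mod_orderOf, ho, hj, hzdef]
        interval_cases i
        · exact absurd (pow_zero y) hg1'
        · exact ⟨3, hred 3 (by norm_num)⟩
        · exact ⟨6, hred 6 (by norm_num)⟩
        · exact ⟨1, hred 1 (by norm_num)⟩
        · exact ⟨3, hred 3 (by norm_num)⟩
        · exact ⟨6, hred 6 (by norm_num)⟩
        · exact ⟨2, hred 2 (by norm_num)⟩
        · exact ⟨3, hred 3 (by norm_num)⟩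
        · exact ⟨6, hred 6 (by norm_num)⟩
      obtain ⟨j, hj⟩ := hzs
      have hzv : z • v = v := by
        rw [hj]
        clear hj
        induction j with
        | zero => rw [pow_zero, one_smul]
        | succ j ih => rw [pow_succ, mul_smul, hs', ih]
      exact hv2 (by rw [← hv1, e3_fix hexp hzv])
    have h9 : 9 ∣ Nat.card T := by
      have h1 := Nat.card_congr (MulAction.selfEquivOrbitsQuotientProd hfree)
      rw [Nat.card_prod, Nat.card_zpowers, ho] at h1
      exact ⟨_, by rw [h1, mul_comm]⟩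
    have hT : Nat.card T = Nat.card V - 1 := by
      have h1 : Nat.card T = Nat.card {v : V // v ≠ 0} := by
        refine Nat.card_congr
          { toFun := fun t => ⟨⟨t.1, t.2.1⟩, fun h => t.2.2 (congrArg Subtype.val h)⟩
            invFun := fun v => ⟨v.1.1, v.1.2, fun h => v.2 (Subtype.ext h)⟩
            left_inv := fun t => rfl
            right_inv := fun v => rfl }
      have := Fintype.ofFinite V
      rw [h1, Nat.card_eq_fintype_card, Fintype.card_subtype_compl, Nat.card_eq_fintype_card, Fintype.card_subtype_eq]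
    rw [hT, hk] at h9
    obtain ⟨m, hm⟩ := six_dvd h9
    refine ⟨m, ?_⟩
    rw [hV, hk, hm, pow_mul]
    norm_num

/-! ### subgroups of order 9 -/

theorem nine_cases {G : Type*} [Group G] [Finite G] (h9 : 9 ∣ Nat.card G) :
    ∃ A : Subgroup G, IsPGroup 3 A ∧ ((∃ y ∈ A, orderOf y = 9) ∨ ∃ x ∈ A, ∃ y ∈ A, orderOf x = 3 ∧ orderOf y = 3 ∧
      x * y = y * x ∧ y ∉ Subgroup.zpowers x) := by
  have : Fact (Nat.Prime 3) := ⟨Nat.prime_three⟩
  obtain ⟨A, hA⟩ := Sylow.exists_subgroup_card_pow_prime (G := G) 3 (n := 2) (by norm_num; exact h9)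
  refine ⟨A, IsPGroup.of_card hA, ?_⟩
  have hord : ∀ x ∈ A, orderOf x = 1 ∨ orderOf x = 3 ∨ orderOf x = 9 := by
    intro x hx
    have h1 : orderOf x ∣ 3 ^ 2 := by
      rw [← hA]
      exact Subgroup.orderOf_dvd_natCard A hx
    rcases (Nat.dvd_prime_pow Nat.prime_three).1 h1 with ⟨j, hj, hj'⟩
    interval_cases j
    · left; rw [hj']; norm_num
    · right; left; rw [hj']; norm_num
    · right; right; rw [hj']; norm_num
  by_cases hc : ∃ y ∈ A, orderOf y = 9
  · exact Or.inl hc
  · right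
    push Not at hc
    have hcomm : ∀ x ∈ A, ∀ y ∈ A, x * y = y * x := by
      have h1 := (IsPGroup.isMulCommutative_of_card_eq_prime_sq (p := 3) (G := A) hA).is_comm.comm
      intro x hx y hy
      exact congrArg Subtype.val (h1 ⟨x, hx⟩ ⟨y, hy⟩)
    obtain ⟨x, hxA, hx1⟩ : ∃ x ∈ A, x ≠ 1 := by
      by_contra hno
      push Not at hno
      have h1 : A = ⊥ := (Subgroup.eq_bot_iff_forall _).2 hno
      rw [h1, Subgroup.card_bot] at hA
      norm_num at hA
    have hx3 : orderOf x = 3 := by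
      rcases hord x hxA with h | h | h
      · exact absurd (orderOf_eq_one_iff.1 h) hx1
      · exact h
      · exact absurd h (hc x hxA)
    obtain ⟨y, hyA, hy⟩ : ∃ y ∈ A, y ∉ Subgroup.zpowers x := by
      by_contra hno
      push Not at hno
      have h1 : A ≤ Subgroup.zpowers x := hno
      have h2 := Nat.le_of_dvd Nat.card_pos (Subgroup.card_dvd_of_le h1)
      rw [hA, Nat.card_zpowers, hx3] at h2
      norm_num at h2
    have hy3 : orderOf y = 3 := by
      rcases hord y hyA with h | h | h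
      · exact absurd (by rw [orderOf_eq_one_iff.1 h]; exact one_mem _) hy
      · exact h
      · exact absurd h (hc y hyA)
    exact ⟨x, hxA, y, hyA, hx3, hy3, hcomm x hxA y hyA, hy⟩

theorem order_three_of {G : Type*} [Group G] {z : G} (h3 : z ^ 3 = 1) (h1 : z ≠ 1) : orderOf z = 3 :=
  orderOf_eq_prime h3 h1

/-- the products have order 3 -/
theorem order_prod {G : Type*} [Group G] {x y : G} (hx : orderOf x = 3) (hy : orderOf y = 3) (hxy : x * y = y * x)
    (hne : y ∉ Subgroup.zpowers x) : orderOf (x * y) = 3 ∧ orderOf (x * y⁻¹) = 3 := by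
  have hx3 : x ^ 3 = 1 := by rw [← hx]; exact pow_orderOf_eq_one x
  have hy3 : y ^ 3 = 1 := by rw [← hy]; exact pow_orderOf_eq_one y
  have : Fact (Nat.Prime 3) := ⟨Nat.prime_three⟩
  refine ⟨orderOf_eq_prime ?_ ?_, orderOf_eq_prime ?_ ?_⟩
  · rw [(show Commute x y from hxy).mul_pow, hx3, hy3, one_mul]
  · intro h
    apply hne
    rw [← inv_eq_of_mul_eq_one_right h]
    exact inv_mem (Subgroup.mem_zpowers x)
  · rw [(show Commute x y⁻¹ from (show Commute x y from hxy).inv_right).mul_pow, inv_pow, hx3, hy3, inv_one, one_mul]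
  · intro h
    apply hne
    rw [← mul_inv_eq_one.1 h]
    exact Subgroup.mem_zpowers x

theorem card_common_pow (hexp : ∀ u : U, 2 • u = 0) (x y : Y) : ∃ k : ℕ, Nat.card {u : U // x • u = u ∧ y • u = u} = 2 ^ k := by
  let V : AddSubgroup U :=
    { carrier := {u | x • u = u ∧ y • u = u}
      zero_mem' := ⟨smul_zero x, smul_zero y⟩
      add_mem' := by
        rintro a b ⟨h1, h2⟩ ⟨h3, h4⟩
        exact ⟨by rw [smul_add, h1, h3], by rw [smul_add, h2, h4]⟩
      neg_mem' := by
        rintro a ⟨h1, h2⟩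
        exact ⟨by rw [smul_neg, h1], by rw [smul_neg, h2]⟩ }
  exact card_two hexp V

section SXs

variable {q n : ℕ} {X : Subgroup Y}

/-- all elements of order `3` fix `4` vectors: the Sylow `3`-subgroup has order `3` -/
theorem not_nine {B : U → U → ZMod 2} (h : SX (U := U) 3 q 2 n X B) (hn : n = 2 ∨ n = 3 ∨ n = 5)
    (hall : ∀ x : Y, orderOf x = 3 → Nat.card {u : U // x • u = u} = 4) : ¬ 9 ∣ Nat.card Y := by
  intro h9
  obtain ⟨A, -, ⟨y, -, hy⟩ | ⟨x, -, y, -, hx, hy, hxy, hne⟩⟩ := nine_cases h9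
  · obtain ⟨m, hm⟩ := order_nine (U := U) h.exp y (by rw [← hy]; exact pow_orderOf_eq_one y)
    have ho : orderOf (y ^ 3) = 3 := by
      rw [orderOf_pow, hy]
      norm_num
    rw [hall _ ho, h.card] at hm
    have h2 : (2 : ℕ) ^ (2 * n) = 2 ^ (2 + 6 * m) := by
      rw [hm, pow_add, pow_mul 2 6 m]
      norm_num
    have h3 := Nat.pow_right_injective (le_refl 2) h2
    rcases hn with rfl | rfl | rfl <;> omega
  · obtain ⟨o1, o2⟩ := order_prod hx hy hxy hne
    have hw := wielandt (U := U) h.exp x y hx hy hxy hne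
    rw [hall x hx, hall y hy, hall _ o1, hall _ o2, h.card] at hw
    obtain ⟨k, hk⟩ := card_common_pow (U := U) h.exp x y
    rw [hk] at hw
    have h2 : (2 : ℕ) ^ 8 = 2 ^ (2 * n + k * 3) := by
      rw [pow_add, pow_mul 2 k 3, ← hw]
      norm_num
    have h3 := Nat.pow_right_injective (le_refl 2) h2
    rcases hn with rfl | rfl | rfl <;> omega

/-- `n = 4`: either the Sylow `3`-subgroup has order `3`, or there is a subgroup of order `9` of type `(2, 2, 2, 3)`, or an
element of order `9` -/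
theorem nine_four {B : U → U → ZMod 2} (h : SX (U := U) 3 q 2 4 X B)
    (hall : ∀ x : Y, orderOf x = 3 → Nat.card {u : U // x • u = u} = 16 ∨ Nat.card {u : U // x • u = u} = 4)
    (hfix : ∀ P : Sylow 3 Y, ∃ u : U, u ≠ 0 ∧ ∀ x ∈ P, x • u = u) (h9 : 9 ∣ Nat.card Y) :
    (∃ y : Y, orderOf y = 9 ∧ Nat.card {u : U // (y ^ 3) • u = u} = 4) ∨
    ∃ x y : Y, orderOf x = 3 ∧ orderOf y = 3 ∧ x * y = y * x ∧ y ∉ Subgroup.zpowers x ∧
      Nat.card {u : U // x • u = u} = 16 ∧ Nat.card {u : U // y • u = u} = 16 ∧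
      Nat.card {u : U // (x * y) • u = u} = 4 := by
  have : Fact (Nat.Prime 3) := ⟨Nat.prime_three⟩
  obtain ⟨A, hA, ⟨y, -, hy⟩ | ⟨x, hxA, y, hyA, hx, hy, hxy, hne⟩⟩ := nine_cases h9
  · left
    refine ⟨y, hy, ?_⟩
    obtain ⟨m, hm⟩ := order_nine (U := U) h.exp y (by rw [← hy]; exact pow_orderOf_eq_one y)
    have ho : orderOf (y ^ 3) = 3 := by
      rw [orderOf_pow, hy]
      norm_num
    rcases hall _ ho with h1 | h1
    · exfalso
      rw [h1, h.card] at hm
      have h2 : (2 : ℕ) ^ (2 * 4) = 2 ^ (4 + 6 * m) := by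
        rw [hm, pow_add, pow_mul 2 6 m]
        norm_num
      have h3 := Nat.pow_right_injective (le_refl 2) h2
      omega
    · exact h1
  · right
    obtain ⟨o1, o2⟩ := order_prod hx hy hxy hne
    have hw := wielandt (U := U) h.exp x y hx hy hxy hne
    obtain ⟨k, hk⟩ := card_common_pow (U := U) h.exp x y
    obtain ⟨P, hP⟩ := hA.exists_le_sylow
    obtain ⟨u, hu0, hu⟩ := hfix P
    have hk0 : k ≠ 0 := by
      rintro rfl
      rw [pow_zero] at hk
      have hs := (Nat.card_eq_one_iff_unique.1 hk).1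
      exact hu0 (congrArg Subtype.val (hs.elim ⟨u, hu x (hP hxA), hu y (hP hyA)⟩ ⟨0, smul_zero x, smul_zero y⟩))
    rw [hk, h.card] at hw
    have hinv : ∀ z : Y, Nat.card {u : U // z⁻¹ • u = u} = Nat.card {u : U // z • u = u} := by
      intro z
      refine Nat.card_congr (Equiv.subtypeEquivRight fun u => ?_)
      rw [inv_smul_eq_iff]
      exact eq_comm
    have hxne : x ∉ Subgroup.zpowers y := by
      intro hh
      apply hne
      have h1 : Subgroup.zpowers x ≤ Subgroup.zpowers y := (Subgroup.zpowers_le).2 hh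
      have h2 : Subgroup.zpowers x = Subgroup.zpowers y :=
        Subgroup.eq_of_le_of_card_ge h1 (by rw [Nat.card_zpowers, Nat.card_zpowers, hx, hy])
      rw [h2]
      exact Subgroup.mem_zpowers y
    have hexpo : ∀ z : Y, orderOf z = 3 → ∃ e : ℕ, (e = 4 ∨ e = 2) ∧ Nat.card {u : U // z • u = u} = 2 ^ e := by
      intro z hz
      rcases hall z hz with h1 | h1
      · exact ⟨4, Or.inl rfl, h1⟩
      · exact ⟨2, Or.inr rfl, h1⟩
    obtain ⟨a, ha, ka⟩ := hexpo x hx
    obtain ⟨b, hb, kb⟩ := hexpo y hy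
    obtain ⟨c, hc, kc⟩ := hexpo _ o1
    obtain ⟨d, hd, kd⟩ := hexpo _ o2
    have hsum : a + b + c + d = 8 + 3 * k := by
      have h2 : (2 : ℕ) ^ (a + b + c + d) = 2 ^ (8 + 3 * k) := by
        rw [pow_add, pow_add, pow_add, ← ka, ← kb, ← kc, ← kd, hw, pow_add, mul_comm 3 k, pow_mul 2 k 3]
      exact Nat.pow_right_injective (le_refl 2) h2
    have hyx : y * x = x * y := hxy.symm
    -- no power of `x y` is in `⟨x⟩` or `⟨y⟩`
    have hmy : y⁻¹ ∉ Subgroup.zpowers (x * y) := by
      intro hh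
      have h1 : Subgroup.zpowers y⁻¹ ≤ Subgroup.zpowers (x * y) := (Subgroup.zpowers_le).2 hh
      have h2 : Subgroup.zpowers y⁻¹ = Subgroup.zpowers (x * y) :=
        Subgroup.eq_of_le_of_card_ge h1 (by rw [Nat.card_zpowers, Nat.card_zpowers, orderOf_inv, hy, o1])
      have h3 : x * y ∈ Subgroup.zpowers y⁻¹ := by rw [h2]; exact Subgroup.mem_zpowers _
      rw [Subgroup.zpowers_inv] at h3
      exact hxne ((Subgroup.mul_mem_cancel_right _ (Subgroup.mem_zpowers y)).1 h3)
    have hmx : x⁻¹ ∉ Subgroup.zpowers (x * y) := by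
      intro hh
      have h1 : Subgroup.zpowers x⁻¹ ≤ Subgroup.zpowers (x * y) := (Subgroup.zpowers_le).2 hh
      have h2 : Subgroup.zpowers x⁻¹ = Subgroup.zpowers (x * y) :=
        Subgroup.eq_of_le_of_card_ge h1 (by rw [Nat.card_zpowers, Nat.card_zpowers, orderOf_inv, hx, o1])
      have h3 : x * y ∈ Subgroup.zpowers x⁻¹ := by rw [h2]; exact Subgroup.mem_zpowers _
      rw [Subgroup.zpowers_inv] at h3
      exact hne ((Subgroup.mul_mem_cancel_left _ (Subgroup.mem_zpowers x)).1 h3)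
    rcases ha with rfl | rfl <;> rcases hb with rfl | rfl <;> rcases hc with rfl | rfl <;> rcases hd with rfl | rfl <;>
      first | (exfalso; omega) | skip
    · -- `⟨x y⁻¹⟩`
      refine ⟨x, y⁻¹, hx, by rw [orderOf_inv, hy], ?_, ?_, ka, by rw [hinv, kb]; norm_num, kd⟩
      · exact (show Commute x y from hxy).inv_right
      · intro hh
        exact hne ((Subgroup.zpowers x).inv_mem_iff.1 hh)
    · -- `⟨x y⟩`
      exact ⟨x, y, hx, hy, hxy, hne, ka, kb, kc⟩
    · -- `⟨y⟩`
      refine ⟨x * y, x⁻¹, o1, by rw [orderOf_inv, hx], ?_, hmx, kc, by rw [hinv, ka]; norm_num, ?_⟩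
      · rw [inv_mul_cancel_left, hxy, mul_inv_cancel_right]
      · rw [hxy, mul_inv_cancel_right, kb]
        norm_num
    · -- `⟨x⟩`
      refine ⟨x * y, y⁻¹, o1, by rw [orderOf_inv, hy], ?_, hmy, kc, by rw [hinv, kb]; norm_num, ?_⟩
      · rw [mul_inv_cancel_right, hxy, inv_mul_cancel_left]
      · rw [mul_inv_cancel_right, ka]
        norm_num

end SXs

end

end Cfsg.Agent.H994.NX
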